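import Mathlib
import Groth.Prelude.Def_HopfRep

set_option autoImplicit false
set_option linter.unusedSectionVars false
set_option linter.unusedVariables false
set_option linter.unusedSimpArgs false
set_option linter.style.haveILetI false
set_option maxHeartbeats 400000

/-!
# Invariants of a multiplicative Hopf coaction: saturation properties
-/

open TensorProduct

namespace Groth.Agent.Lib.Helper6.InvNorm

universe u

variable {k : Type u} [Field k] {H : Type u} [CommRing H] [HopfAlgebra k H]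
  {S : Type u} [CommRing S] [Algebra k S]

/-- annihilator transfer along `S → S ⊗ H` -/
lemma ann_transfer {a ε : S} (h : ∀ s : S, s * a = 0 → ε * s = 0) {t : S ⊗[k] H}
    (ht : (a ⊗ₜ[k] (1 : H)) * t = 0) : (ε ⊗ₜ[k] (1 : H)) * t = 0 := by
  let b := Module.Free.chooseBasis k H
  let B := Algebra.TensorProduct.basis S b
  have hsm : ∀ (c : S) (t : S ⊗[k] H), (c ⊗ₜ[k] (1 : H)) * t = c • t := by
    intro c t
    rw [Algebra.smul_def, Algebra.TensorProduct.algebraMap_apply]
    rfl
  rw [hsm] at ht ⊢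
  have h1 : ∀ α, a * B.repr t α = 0 := by
    intro α
    have := congrArg (fun x => B.repr x α) ht
    simpa using this
  apply B.repr.injective
  ext α
  rw [map_smul, map_zero, Finsupp.smul_apply, Finsupp.zero_apply, smul_eq_mul]
  exact h _ (by rw [mul_comm]; exact h1 α)

variable [HopfRep.Comod k H S]

/-- the coaction -/
noncomputable abbrev ρ : S →ₗ[k] S ⊗[k] H := HopfRep.Comod.coact (k := k) (A := H)

variable (hmul : ∀ x y : S, ρ (k := k) (H := H) (x * y) = ρ (k := k) (H := H) x * ρ (k := k) (H := H) y)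
  (hone : ρ (k := k) (H := H) (1 : S) = 1)

/-- the coaction as an algebra map -/
noncomputable def ρA : S →ₐ[k] S ⊗[k] H := AlgHom.ofLinearMap (ρ (k := k) (H := H)) hone hmul

lemma ρA_apply (s : S) : ρA hmul hone s = ρ (k := k) (H := H) s := rfl

/-- the shear map `s ⊗ h ↦ ρ(s) (1 ⊗ h)` -/
noncomputable def shear : S ⊗[k] H →ₐ[k] S ⊗[k] H :=
  Algebra.TensorProduct.productMap (ρA hmul hone) Algebra.TensorProduct.includeRight

lemma shear_tmul (s : S) (h : H) :
    shear hmul hone (s ⊗ₜ[k] h) = ρ (k := k) (H := H) s * ((1 : S) ⊗ₜ[k] h) := by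
  rw [shear, Algebra.TensorProduct.productMap_apply_tmul]
  rfl

/-- the key identity: `shear ((id ⊗ antipode) (ρ s)) = s ⊗ 1` -/
lemma shear_antipode (s : S) :
    shear hmul hone ((HopfAlgebra.antipode k (A := H)).lTensor S (ρ (k := k) (H := H) s)) =
      s ⊗ₜ[k] (1 : H) := by
  -- the auxiliary map `t ⊗ h ↦ t * (1 ⊗ antipode h)`
  let ν : H →ₗ[k] S ⊗[k] H :=
    (Algebra.TensorProduct.includeRight (R := k) (A := S) (B := H)).toLinearMap ∘ₗ
      HopfAlgebra.antipode k (A := H)
  let μ : (S ⊗[k] H) ⊗[k] H →ₗ[k] S ⊗[k] H :=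
    LinearMap.mul' k (S ⊗[k] H) ∘ₗ ν.lTensor (S ⊗[k] H)
  have hμ : ∀ (t : S ⊗[k] H) (h : H),
      μ (t ⊗ₜ[k] h) = t * ((1 : S) ⊗ₜ[k] HopfAlgebra.antipode k h) := by
    intro t h
    simp [μ, ν]
  have e1 : (shear hmul hone).toLinearMap ∘ₗ (HopfAlgebra.antipode k (A := H)).lTensor S =
      μ ∘ₗ (ρ (k := k) (H := H)).rTensor H := by
    apply TensorProduct.ext'
    intro s h
    rw [LinearMap.comp_apply, LinearMap.comp_apply, LinearMap.lTensor_tmul,
      LinearMap.rTensor_tmul, hμ, AlgHom.toLinearMap_apply, shear_tmul]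
  have e2 : μ ∘ₗ (TensorProduct.assoc k S H H).symm.toLinearMap =
      (LinearMap.mul' k H ∘ₗ (HopfAlgebra.antipode k (A := H)).lTensor H).lTensor S := by
    apply TensorProduct.ext'
    intro s hh
    induction hh using TensorProduct.induction_on with
    | zero => simp
    | tmul h₁ h₂ =>
      rw [LinearMap.comp_apply, LinearEquiv.coe_coe, TensorProduct.assoc_symm_tmul, hμ,
        LinearMap.lTensor_tmul, LinearMap.comp_apply, LinearMap.lTensor_tmul,
        LinearMap.mul'_apply, Algebra.TensorProduct.tmul_mul_tmul, mul_one]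
    | add x y hx hy =>
      rw [TensorProduct.tmul_add, map_add, map_add, hx, hy]
  have h1 := LinearMap.congr_fun e1 (ρ (k := k) (H := H) s)
  rw [LinearMap.comp_apply, AlgHom.toLinearMap_apply] at h1
  rw [h1, LinearMap.comp_apply]
  have h2 : (ρ (k := k) (H := H)).rTensor H (ρ (k := k) (H := H) s) =
      (TensorProduct.assoc k S H H).symm
        ((CoalgebraStruct.comul (R := k) (A := H)).lTensor S (ρ (k := k) (H := H) s)) := by
    have := LinearMap.congr_fun (HopfRep.Comod.coassoc (k := k) (A := H) (V := S)) s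
    simp only [LinearMap.comp_apply, LinearEquiv.coe_coe] at this
    rw [← this, LinearEquiv.symm_apply_apply]
  rw [h2]
  have h3 := LinearMap.congr_fun e2
    ((CoalgebraStruct.comul (R := k) (A := H)).lTensor S (ρ (k := k) (H := H) s))
  rw [LinearMap.comp_apply, LinearEquiv.coe_coe] at h3
  rw [h3, ← LinearMap.comp_apply, ← LinearMap.lTensor_comp]
  have h4 : (LinearMap.mul' k H ∘ₗ (HopfAlgebra.antipode k (A := H)).lTensor H) ∘ₗ
      CoalgebraStruct.comul (R := k) (A := H) =
      Algebra.linearMap k H ∘ₗ CoalgebraStruct.counit (R := k) (A := H) := by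
    rw [LinearMap.comp_assoc]
    exact HopfAlgebra.mul_antipode_lTensor_comul
  rw [h4, LinearMap.lTensor_comp, LinearMap.comp_apply]
  have h5 := LinearMap.congr_fun (HopfRep.Comod.counit_comp (k := k) (A := H) (V := S)) s
  rw [LinearMap.comp_apply] at h5
  rw [h5]
  simp

include hmul hone in
/-- an idempotent whose annihilator is that of an invariant is invariant -/
theorem idem_invariant {a ε : S} (ha : ρ (k := k) (H := H) a = a ⊗ₜ[k] (1 : H))
    (hε : ε * ε = ε) (hεa : ε * a = a) (hann : ∀ s : S, s * a = 0 → ε * s = 0) :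
    ρ (k := k) (H := H) ε = ε ⊗ₜ[k] (1 : H) := by
  set ε' := 1 - ε with hε'
  have hε'a : ε' * a = 0 := by rw [hε', sub_mul, one_mul, hεa, sub_self]
  have hεε' : ε * ε' = 0 := by rw [hε', mul_sub, mul_one, hε, sub_self]
  set u := ρ (k := k) (H := H) ε' with hu
  set v : S ⊗[k] H := ε' ⊗ₜ[k] (1 : H) with hv
  -- Step 1: `(ε ⊗ 1) u = 0`
  have h1 : (ε ⊗ₜ[k] (1 : H)) * u = 0 := by
    apply ann_transfer hann
    rw [← ha, hu, mul_comm, ← hmul, hε'a, map_zero]
  have hvu : v * u = u := by
    have : v = 1 - ε ⊗ₜ[k] (1 : H) := by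
      rw [hv, hε', TensorProduct.sub_tmul, Algebra.TensorProduct.one_def]
    rw [this, sub_mul, one_mul, h1, sub_zero]
  -- Step 2
  set w := (HopfAlgebra.antipode k (A := H)).lTensor S u with hw
  have hvw : v * w = w := by
    have hlin : ∀ t : S ⊗[k] H, (HopfAlgebra.antipode k (A := H)).lTensor S (v * t) =
        v * (HopfAlgebra.antipode k (A := H)).lTensor S t := by
      intro t
      induction t using TensorProduct.induction_on with
      | zero => simp
      | tmul s h =>
        rw [hv, Algebra.TensorProduct.tmul_mul_tmul, LinearMap.lTensor_tmul,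
          LinearMap.lTensor_tmul, Algebra.TensorProduct.tmul_mul_tmul, one_mul, one_mul]
      | add x y hx hy => rw [mul_add, map_add, hx, hy, map_add, mul_add]
    rw [hw, ← hlin, hvu]
  have hΦw : shear hmul hone w = v := by
    rw [hw, hu, shear_antipode]
  have hΦv : shear hmul hone v = u := by
    rw [hv, shear_tmul, hu]
    rw [show ((1 : S) ⊗ₜ[k] (1 : H)) = 1 from rfl, mul_one]
  have h3 : v = u * v := by
    have := congrArg (shear hmul hone) hvw
    rw [map_mul, hΦw, hΦv] at this
    exact this.symm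
  have huv : u = v := by
    rw [h3, mul_comm, hvu]
  -- conclude
  have : ρ (k := k) (H := H) ε = 1 - u := by
    rw [hu, hε', map_sub, hone]
    abel
  rw [this, huv, hv, hε', TensorProduct.sub_tmul, Algebra.TensorProduct.one_def]
  abel

include hmul in
/-- the saturation property -/
theorem quotient_invariant {a b c ε : S} (ha : ρ (k := k) (H := H) a = a ⊗ₜ[k] (1 : H))
    (hb : ρ (k := k) (H := H) b = b ⊗ₜ[k] (1 : H))
    (hε : ρ (k := k) (H := H) ε = ε ⊗ₜ[k] (1 : H))
    (hann : ∀ s : S, s * b = 0 → ε * s = 0) (habc : a = b * c) (hεc : ε * c = c) :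
    ρ (k := k) (H := H) c = c ⊗ₜ[k] (1 : H) := by
  set d := ρ (k := k) (H := H) c - c ⊗ₜ[k] (1 : H) with hd
  have h1 : (b ⊗ₜ[k] (1 : H)) * d = 0 := by
    rw [hd, mul_sub, ← hb, ← hmul, ← habc, ha, hb, Algebra.TensorProduct.tmul_mul_tmul, ← habc,
      mul_one, sub_self]
  have h2 : (ε ⊗ₜ[k] (1 : H)) * d = d := by
    rw [hd, mul_sub, ← hε, ← hmul, hεc, hε, Algebra.TensorProduct.tmul_mul_tmul, hεc, mul_one]
  have h3 : (ε ⊗ₜ[k] (1 : H)) * d = 0 := ann_transfer hann h1
  have : d = 0 := by rw [← h2, h3]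
  exact sub_eq_zero.mp this

end Groth.Agent.Lib.Helper6.InvNorm
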