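import Mathlib

set_option autoImplicit false
set_option linter.unusedSectionVars false
set_option linter.unusedVariables false
set_option linter.unusedSimpArgs false
set_option linter.style.haveILetI false
set_option maxHeartbeats 400000

/-!
# A homogeneous criterion for integral closedness
-/

open Polynomial

namespace Groth.Agent.Lib.Helper6.InvNorm

universe u

/-- `a / b` satisfies a monic equation, in homogeneous form -/
def HomRel {E : Type*} [CommRing E] (a b : E) : Prop :=
  ∃ p : E[X], p.Monic ∧ (p.scaleRoots b).eval a = 0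

lemma HomRel.map {E D : Type*} [CommRing E] [CommRing D] [Nontrivial D] (φ : E →+* D) {a b : E}
    (h : HomRel a b) : HomRel (φ a) (φ b) := by
  obtain ⟨p, hp, he⟩ := h
  refine ⟨p.map φ, hp.map φ, ?_⟩
  rw [← Polynomial.map_scaleRoots p b φ (by rw [hp.leadingCoeff, map_one]; exact one_ne_zero),
    Polynomial.eval_map, Polynomial.eval₂_at_apply, he, map_zero]

lemma exists_mul_of_homRel {D : Type*} [CommRing D] [IsDomain D] [IsIntegrallyClosed D] {a b : D}
    (hb : b ≠ 0) (h : HomRel a b) : ∃ y, a = b * y := by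
  obtain ⟨p, hp, he⟩ := h
  set K := FractionRing D
  set f := algebraMap D K with hf
  have hinj : Function.Injective f := IsFractionRing.injective D K
  have hfb : f b ≠ 0 := fun h0 => hb (hinj (h0.trans (map_zero f).symm))
  set x := f a / f b with hx
  have h1 := Polynomial.scaleRoots_eval₂_mul (p := p) f x b
  have h2 : f b * x = f a := by rw [hx]; exact mul_div_cancel₀ _ hfb
  rw [h2, Polynomial.eval₂_at_apply, he, map_zero] at h1
  have h3 : eval₂ f x p = 0 := by
    rcases mul_eq_zero.mp h1.symm with h | h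
    · exact absurd h (pow_ne_zero _ hfb)
    · exact h
  have hint : IsIntegral D x := ⟨p, hp, h3⟩
  obtain ⟨y, hy⟩ := (isIntegrallyClosed_iff K).mp inferInstance hint
  refine ⟨y, hinj ?_⟩
  rw [map_mul, hy, h2]

lemma isIntegrallyClosed_of_homRel {E : Type*} [CommRing E] [IsDomain E]
    (h : ∀ a b : E, b ≠ 0 → HomRel a b → ∃ y, a = b * y) : IsIntegrallyClosed E := by
  rw [isIntegrallyClosed_iff (FractionRing E)]
  intro x hx
  obtain ⟨a, b, hb, rfl⟩ := IsFractionRing.div_surjective (A := E) x
  obtain ⟨p, hp, hpx⟩ := hx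
  have hinj : Function.Injective (algebraMap E (FractionRing E)) :=
    IsFractionRing.injective E (FractionRing E)
  have h1 := Polynomial.scaleRoots_aeval_eq_zero_of_aeval_div_eq_zero hinj
    (p := p) (r := a) (s := b) hpx hb
  rw [Polynomial.aeval_algebraMap_apply] at h1
  have h2 : (p.scaleRoots b).eval a = 0 := hinj (h1.trans (map_zero _).symm)
  have hb0 : b ≠ 0 := nonZeroDivisors.ne_zero hb
  obtain ⟨y, hy⟩ := h a b hb0 ⟨p, hp, h2⟩
  refine ⟨y, ?_⟩
  have hfb : algebraMap E (FractionRing E) b ≠ 0 :=
    fun h0 => hb0 (hinj (h0.trans (map_zero _).symm))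
  rw [hy, map_mul]
  field_simp

end Groth.Agent.Lib.Helper6.InvNorm
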