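import Mathlib
import Groth.Agent.Lib.Helper6.InvNorm.INa

set_option autoImplicit false
set_option linter.unusedSectionVars false
set_option linter.unusedVariables false
set_option linter.unusedSimpArgs false
set_option linter.style.haveILetI false
set_option maxHeartbeats 400000

/-!
# Saturated subrings of finite products of normal domains
-/

open Polynomial

namespace Groth.Agent.Lib.Helper6.InvNorm

universe u

variable {ι : Type u} [Fintype ι] [DecidableEq ι] (D : ι → Type u) [∀ i, CommRing (D i)]

/-- idempotent of a subset -/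
def idem (J : Finset ι) : Π i, D i := fun i => if i ∈ J then 1 else 0

variable {D}

open Classical in
/-- support -/
noncomputable def supp (a : Π i, D i) : Finset ι := Finset.univ.filter (fun i => a i ≠ 0)

lemma mem_supp {a : Π i, D i} {i : ι} : i ∈ supp a ↔ a i ≠ 0 := by simp [supp]

lemma idem_apply_of_mem {J : Finset ι} {i : ι} (h : i ∈ J) : idem D J i = 1 := by simp [idem, h]

lemma idem_apply_of_notMem {J : Finset ι} {i : ι} (h : i ∉ J) : idem D J i = 0 := by
  simp [idem, h]

lemma idem_mul (J K : Finset ι) : idem D J * idem D K = idem D (J ∩ K) := by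
  funext i
  by_cases h1 : i ∈ J <;> by_cases h2 : i ∈ K <;> simp [idem, h1, h2]

lemma idem_sdiff (J K : Finset ι) : idem D (J \ K) = idem D J * (1 - idem D K) := by
  funext i
  by_cases h1 : i ∈ J <;> by_cases h2 : i ∈ K <;> simp [idem, h1, h2]

lemma idem_mul_supp (a : Π i, D i) : idem D (supp a) * a = a := by
  funext i
  by_cases h : a i = 0
  · simp [h]
  · have : i ∈ supp a := mem_supp.mpr h
    simp [idem, this]

lemma supp_eq_empty {a : Π i, D i} : supp a = ∅ ↔ a = 0 := by
  constructor
  · intro h
    funext i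
    by_contra hi
    have : i ∈ supp a := mem_supp.mpr hi
    rw [h] at this
    simp at this
  · rintro rfl
    ext i
    simp [mem_supp]

variable [∀ i, IsDomain (D i)]

/-- saturation properties -/
structure Good (A : Subring (Π i, D i)) : Prop where
  q : ∀ a ∈ A, idem D (supp a) ∈ A
  p : ∀ a ∈ A, ∀ b ∈ A, ∀ c : Π i, D i, a = b * c → supp c ⊆ supp b → c ∈ A

variable (A : Subring (Π i, D i))

open Classical in
/-- the atom of `i` -/
noncomputable def atom (i : ι) : Finset ι :=
  Finset.univ.filter (fun i' => ∀ J : Finset ι, idem D J ∈ A → i ∈ J → i' ∈ J)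

lemma mem_atom {i i' : ι} : i' ∈ atom A i ↔ ∀ J : Finset ι, idem D J ∈ A → i ∈ J → i' ∈ J := by
  simp [atom]

lemma self_mem_atom (i : ι) : i ∈ atom A i := (mem_atom A).mpr fun _ _ h => h

lemma atom_subset {i : ι} {J : Finset ι} (hJ : idem D J ∈ A) (hi : i ∈ J) : atom A i ⊆ J :=
  fun i' hi' => (mem_atom A).mp hi' J hJ hi

open Classical in
lemma idem_atom_mem (i : ι) : idem D (atom A i) ∈ A := by
  set 𝓢 : Finset (Finset ι) := Finset.univ.filter (fun J => idem D J ∈ A ∧ i ∈ J) with h𝓢
  have h : idem D (atom A i) = ∏ J ∈ 𝓢, idem D J := by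
    funext i'
    rw [Finset.prod_apply]
    simp only [idem]
    rw [Finset.prod_boole]
    congr 1
    apply propext
    rw [mem_atom]
    constructor
    · intro h J hJ
      rw [h𝓢, Finset.mem_filter] at hJ
      exact h J hJ.2.1 hJ.2.2
    · intro h J hJ hi
      exact h J (by rw [h𝓢, Finset.mem_filter]; exact ⟨Finset.mem_univ _, hJ, hi⟩)
  rw [h]
  apply Subring.prod_mem
  intro J hJ
  rw [h𝓢, Finset.mem_filter] at hJ
  exact hJ.2.1

lemma atom_eq_of_mem {i i' : ι} (h : i' ∈ atom A i) : atom A i' = atom A i := by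
  apply Finset.Subset.antisymm
  · exact atom_subset A (idem_atom_mem A i) h
  · have hi : i ∈ atom A i' := by
      by_contra hni
      have hJ : idem D (atom A i \ atom A i') ∈ A := by
        rw [idem_sdiff]
        exact A.mul_mem (idem_atom_mem A i) (A.sub_mem A.one_mem (idem_atom_mem A i'))
      have hiJ : i ∈ atom A i \ atom A i' := Finset.mem_sdiff.mpr ⟨self_mem_atom A i, hni⟩
      have := atom_subset A hJ hiJ h
      exact (Finset.mem_sdiff.mp this).2 (self_mem_atom A i')
    exact atom_subset A (idem_atom_mem A i') hi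

lemma atom_minimal {i : ι} {J : Finset ι} (hJ : idem D J ∈ A) (hsub : J ⊆ atom A i) :
    J = ∅ ∨ J = atom A i := by
  by_cases hne : J = ∅
  · left; exact hne
  right
  obtain ⟨i', hi'⟩ := Finset.nonempty_iff_ne_empty.mpr hne
  apply Finset.Subset.antisymm hsub
  rw [← atom_eq_of_mem A (hsub hi')]
  exact atom_subset A hJ hi'

variable {A}

lemma eq_zero_on_atom (hA : Good A) {a : Π i, D i} (ha : a ∈ A) (i₀ : ι) (h0 : a i₀ = 0) :
    ∀ i ∈ atom A i₀, a i = 0 := by
  set a' := idem D (atom A i₀) * a with ha'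
  have ha'A : a' ∈ A := A.mul_mem (idem_atom_mem A i₀) ha
  have hs : idem D (supp a') ∈ A := hA.q a' ha'A
  have hsub : supp a' ⊆ atom A i₀ := by
    intro i hi
    rw [mem_supp] at hi
    by_contra hni
    apply hi
    rw [ha', Pi.mul_apply, idem_apply_of_notMem hni, zero_mul]
  have hi₀ : i₀ ∉ supp a' := by
    rw [mem_supp, not_not, ha', Pi.mul_apply, h0, mul_zero]
  rcases atom_minimal A hs hsub with h | h
  · intro i hi
    have : a' = 0 := supp_eq_empty.mp h
    have h2 := congrFun this i
    rw [ha', Pi.mul_apply, idem_apply_of_mem hi, one_mul] at h2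
    exact h2
  · exact absurd (h ▸ self_mem_atom A i₀) hi₀

lemma supp_eq_atom (hA : Good A) {b : Π i, D i} (hb : b ∈ A) (i₀ : ι) (h0 : b i₀ ≠ 0)
    (hsub : supp b ⊆ atom A i₀) : supp b = atom A i₀ := by
  rcases atom_minimal A (hA.q b hb) hsub with h | h
  · exfalso
    have : i₀ ∈ supp b := mem_supp.mpr h0
    rw [h] at this
    simp at this
  · exact h

end Groth.Agent.Lib.Helper6.InvNorm
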