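import Mathlib
import Groth.Agent.Lib.Helper6.InvNorm.INb

set_option autoImplicit false
set_option linter.unusedSectionVars false
set_option linter.unusedVariables false
set_option linter.unusedSimpArgs false
set_option linter.style.haveILetI false
set_option maxHeartbeats 400000

/-!
# Saturated subrings of finite products of normal domains: the structure theorem
-/

open Polynomial

namespace Groth.Agent.Lib.Helper6.InvNorm

universe u

variable {ι : Type u} [Fintype ι] [DecidableEq ι] {D : ι → Type u} [∀ i, CommRing (D i)]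
  [∀ i, IsDomain (D i)]

lemma map_eval_scaleRoots {E F : Type*} [CommRing E] [CommRing F] [Nontrivial F] (φ : E →+* F)
    {p : E[X]} (hp : p.Monic) (a b : E) :
    φ ((p.scaleRoots b).eval a) = ((p.map φ).scaleRoots (φ b)).eval (φ a) := by
  rw [← Polynomial.map_scaleRoots p b φ (by rw [hp.leadingCoeff, map_one]; exact one_ne_zero),
    Polynomial.eval_map, Polynomial.eval₂_at_apply]

variable (A : Subring (Π i, D i))

/-- the index type of atoms -/
def Atoms : Type u := {J : Finset ι // J ∈ Finset.univ.image (atom A)}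

noncomputable instance : Fintype (Atoms A) :=
  inferInstanceAs (Fintype {J : Finset ι // J ∈ Finset.univ.image (atom A)})

/-- a representative of an atom -/
noncomputable def rep (j : Atoms A) : ι := (Finset.mem_image.mp j.2).choose

lemma atom_rep (j : Atoms A) : atom A (rep A j) = j.1 := (Finset.mem_image.mp j.2).choose_spec.2

lemma rep_mem (j : Atoms A) : rep A j ∈ j.1 := by
  rw [← atom_rep A j]; exact self_mem_atom A _

/-- the atom containing `i` -/
noncomputable def atomOf (i : ι) : Atoms A := ⟨atom A i, Finset.mem_image_of_mem _ (Finset.mem_univ i)⟩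

lemma mem_atomOf (i : ι) : i ∈ (atomOf A i).1 := self_mem_atom A i

lemma atoms_eq_of_mem {j j' : Atoms A} (h : rep A j ∈ j'.1) : j = j' := by
  apply Subtype.ext
  rw [← atom_rep A j, ← atom_rep A j']
  rw [← atom_rep A j'] at h
  exact atom_eq_of_mem A h

/-- evaluation at the representative -/
noncomputable def evA (j : Atoms A) : A →+* D (rep A j) :=
  (Pi.evalRingHom D (rep A j)).comp A.subtype

lemma evA_apply (j : Atoms A) (a : A) : evA A j a = (a : Π i, D i) (rep A j) := rfl

/-- the factor ring -/
noncomputable def Fac (j : Atoms A) : Subring (D (rep A j)) := (evA A j).range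

/-- the projection to the factor -/
noncomputable def toFac (j : Atoms A) : A →+* Fac A j := (evA A j).rangeRestrict

lemma toFac_coe (j : Atoms A) (a : A) : ((toFac A j a : Fac A j) : D (rep A j)) =
    (a : Π i, D i) (rep A j) := rfl

lemma toFac_surjective (j : Atoms A) : Function.Surjective (toFac A j) :=
  (evA A j).rangeRestrict_surjective

/-- the product map -/
noncomputable def toProd : A →+* Π j : Atoms A, Fac A j := RingHom.pi (toFac A)

variable {A}

lemma toProd_injective (hA : Good A) : Function.Injective (toProd A) := by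
  rw [injective_iff_map_eq_zero]
  intro a ha
  apply Subtype.ext
  funext i
  have h1 : (a : Π i, D i) (rep A (atomOf A i)) = 0 := by
    have := congrFun ha (atomOf A i)
    have h2 := congrArg Subtype.val this
    exact h2
  have := eq_zero_on_atom hA a.2 (rep A (atomOf A i)) h1 i
    (by rw [atom_rep]; exact mem_atomOf A i)
  exact this

lemma toProd_surjective (hA : Good A) : Function.Surjective (toProd A) := by
  intro y
  choose a ha using fun j => toFac_surjective A j (y j)
  set s : Π i, D i := ∑ j : Atoms A, idem D j.1 * (a j : Π i, D i) with hs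
  have hsA : s ∈ A := by
    apply Subring.sum_mem
    intro j _
    apply A.mul_mem _ (a j).2
    rw [← atom_rep A j]
    exact idem_atom_mem A _
  refine ⟨⟨s, hsA⟩, ?_⟩
  funext j
  apply Subtype.ext
  change s (rep A j) = (y j : D (rep A j))
  rw [← ha j, toFac_coe, hs, Finset.sum_apply, Finset.sum_eq_single j]
  · rw [Pi.mul_apply, idem_apply_of_mem (rep_mem A j), one_mul]
  · intro j' _ hne
    have : rep A j ∉ j'.1 := fun h => hne (atoms_eq_of_mem A h).symm
    rw [Pi.mul_apply, idem_apply_of_notMem this, zero_mul]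
  · intro h
    exact absurd (Finset.mem_univ j) h

variable [∀ i, IsIntegrallyClosed (D i)]

lemma fac_isIntegrallyClosed (hA : Good A) (j : Atoms A) : IsIntegrallyClosed (Fac A j) := by
  apply isIntegrallyClosed_of_homRel
  intro α β hβ hrel
  obtain ⟨p, hp, he⟩ := hrel
  -- lift the polynomial
  have hlift : p ∈ Polynomial.lifts (toFac A j) := by
    obtain ⟨q, hq⟩ := Polynomial.map_surjective (toFac A j) (toFac_surjective A j) p
    exact (Polynomial.mem_lifts p).mpr ⟨q, hq⟩
  obtain ⟨q, hq, -, hqm⟩ := Polynomial.lifts_and_natDegree_eq_and_monic hlift hp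
  obtain ⟨a₀, ha₀⟩ := toFac_surjective A j α
  obtain ⟨b₀, hb₀⟩ := toFac_surjective A j β
  set i₀ := rep A j with hi₀
  have hat : atom A i₀ = j.1 := atom_rep A j
  let eJ : A := ⟨idem D (atom A i₀), idem_atom_mem A i₀⟩
  have heJ : toFac A j eJ = 1 := by
    apply Subtype.ext
    rw [toFac_coe]
    change idem D (atom A i₀) i₀ = 1
    exact idem_apply_of_mem (self_mem_atom A i₀)
  set a' : A := eJ * a₀ with ha'
  set b' : A := eJ * b₀ with hb'
  have hfa : toFac A j a' = α := by rw [ha', map_mul, heJ, one_mul, ha₀]
  have hfb : toFac A j b' = β := by rw [hb', map_mul, heJ, one_mul, hb₀]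
  set r : A := (q.scaleRoots b').eval a' with hr
  have hr0 : toFac A j r = 0 := by
    rw [hr, map_eval_scaleRoots (toFac A j) hqm, hq, hfa, hfb, he]
  have hr1 : (r : Π i, D i) i₀ = 0 := by
    have := congrArg Subtype.val hr0
    exact this
  have hrz : ∀ i ∈ atom A i₀, (r : Π i, D i) i = 0 := eq_zero_on_atom hA r.2 i₀ hr1
  -- support of b'
  have hb'i₀ : (b' : Π i, D i) i₀ ≠ 0 := by
    intro h0
    apply hβ
    apply Subtype.ext
    rw [← hfb, toFac_coe]
    exact h0
  have hsub_b : supp (b' : Π i, D i) ⊆ atom A i₀ := by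
    intro i hi
    rw [mem_supp] at hi
    by_contra hni
    apply hi
    change (idem D (atom A i₀) * (b₀ : Π i, D i)) i = 0
    rw [Pi.mul_apply, idem_apply_of_notMem hni, zero_mul]
  have hsupp_b : supp (b' : Π i, D i) = atom A i₀ := supp_eq_atom hA b'.2 i₀ hb'i₀ hsub_b
  -- componentwise division
  have hdiv : ∀ i ∈ atom A i₀, ∃ y : D i, (a' : Π i, D i) i = (b' : Π i, D i) i * y := by
    intro i hi
    let ψ : A →+* D i := (Pi.evalRingHom D i).comp A.subtype
    have hψ : ψ r = 0 := hrz i hi
    rw [hr, map_eval_scaleRoots ψ hqm] at hψ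
    have hbi : (b' : Π i, D i) i ≠ 0 := by
      have : i ∈ supp (b' : Π i, D i) := by rw [hsupp_b]; exact hi
      exact mem_supp.mp this
    exact exists_mul_of_homRel hbi ⟨q.map ψ, hqm.map ψ, hψ⟩
  choose y hy using hdiv
  let Y : Π i, D i := fun i => if h : i ∈ atom A i₀ then y i h else 0
  have hprod : (a' : Π i, D i) = (b' : Π i, D i) * Y := by
    funext i
    by_cases hi : i ∈ atom A i₀
    · rw [Pi.mul_apply, hy i hi]
      simp [Y, hi]
    · have h1 : (a' : Π i, D i) i = 0 := by
        change (idem D (atom A i₀) * (a₀ : Π i, D i)) i = 0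
        rw [Pi.mul_apply, idem_apply_of_notMem hi, zero_mul]
      rw [h1, Pi.mul_apply]
      simp [Y, hi]
  have hsuppY : supp Y ⊆ supp (b' : Π i, D i) := by
    intro i hi
    rw [hsupp_b]
    by_contra hni
    rw [mem_supp] at hi
    apply hi
    simp [Y, hni]
  have hYA : Y ∈ A := hA.p _ a'.2 _ b'.2 Y hprod hsuppY
  refine ⟨toFac A j ⟨Y, hYA⟩, ?_⟩
  rw [← hfa, ← hfb, ← map_mul]
  congr 1
  exact Subtype.ext hprod

/-- **Structure theorem**: a saturated subring of a finite product of normal domains is a finite
product of normal domains. -/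
theorem structure_theorem (hA : Good A) :
    ∃ (κ : Type u) (_ : Fintype κ) (E : κ → Type u) (_ : ∀ j, CommRing (E j))
      (_ : ∀ j, IsDomain (E j)) (_ : ∀ j, IsIntegrallyClosed (E j)),
      Nonempty (A ≃+* Π j, E j) :=
  ⟨Atoms A, inferInstance, fun j => Fac A j, fun j => inferInstance, fun j => inferInstance,
    fun j => fac_isIntegrallyClosed hA j,
    ⟨RingEquiv.ofBijective (toProd A) ⟨toProd_injective hA, toProd_surjective hA⟩⟩⟩

end Groth.Agent.Lib.Helper6.InvNorm
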