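import Mathlib
import Groth.Prelude.Def_HopfRep
import Groth.Agent.Lib.Helper6.InvNorm.INc
import Groth.Agent.Lib.Helper6.InvNorm.INd

set_option autoImplicit false
set_option linter.unusedSectionVars false
set_option linter.unusedVariables false
set_option linter.unusedSimpArgs false
set_option linter.style.haveILetI false
set_option maxHeartbeats 400000

/-!
# Invariants of a finite product of normal domains under a multiplicative coaction
-/

open TensorProduct

namespace Groth.Agent.Lib.Helper6.InvNorm

universe u

theorem main (k : Type u) [Field k]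
    (H : Type u) [CommRing H] [HopfAlgebra k H]
    (S : Type u) [CommRing S] [Algebra k S] [HopfRep.Comod k H S]
    (hmul : ∀ x y : S, HopfRep.Comod.coact (k := k) (A := H) (x * y) =
        HopfRep.Comod.coact (k := k) (A := H) x * HopfRep.Comod.coact (k := k) (A := H) y)
    (hone : HopfRep.Comod.coact (k := k) (A := H) (1 : S) = 1)
    {ι : Type u} [Fintype ι] (D : ι → Type u) [∀ i, CommRing (D i)] [∀ i, IsDomain (D i)]
    [∀ i, IsIntegrallyClosed (D i)] (e : S ≃+* Π i, D i)
    (A : Subalgebra k S)
    (hA : ∀ a : S, a ∈ A ↔ HopfRep.Comod.coact (k := k) (A := H) a = a ⊗ₜ[k] (1 : H)) :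
    ∃ (κ : Type u) (_ : Fintype κ) (E : κ → Type u) (_ : ∀ j, CommRing (E j))
      (_ : ∀ j, IsDomain (E j)) (_ : ∀ j, IsIntegrallyClosed (E j)),
      Nonempty (A ≃+* Π j, E j) := by
  classical
  set A' : Subring (Π i, D i) := A.toSubring.map e.toRingHom with hA'
  have hmem : ∀ x : Π i, D i, x ∈ A' ↔ e.symm x ∈ A := by
    intro x
    rw [hA', Subring.mem_map]
    constructor
    · rintro ⟨a, ha, rfl⟩
      simpa using ha
    · intro h
      exact ⟨e.symm x, h, by simp⟩
  -- annihilator property
  have hann : ∀ a' : Π i, D i, ∀ s : S, s * e.symm a' = 0 →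
      e.symm (idem D (supp a')) * s = 0 := by
    intro a' s hs
    apply e.injective
    rw [map_mul, map_zero, RingEquiv.apply_symm_apply]
    have h2 : e s * a' = 0 := by
      have := congrArg e hs
      rwa [map_mul, map_zero, RingEquiv.apply_symm_apply] at this
    funext i
    by_cases hi : i ∈ supp a'
    · have hne : a' i ≠ 0 := mem_supp.mp hi
      have h3 := congrFun h2 i
      simp only [Pi.mul_apply, Pi.zero_apply] at h3
      rcases mul_eq_zero.mp h3 with h4 | h4
      · simp [h4]
      · exact absurd h4 hne
    · simp [idem_apply_of_notMem hi]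
  have hq : ∀ a' : Π i, D i, e.symm a' ∈ A → e.symm (idem D (supp a')) ∈ A := by
    intro a' ha'
    rw [hA] at ha' ⊢
    apply idem_invariant hmul hone ha'
    · rw [← map_mul, idem_mul, Finset.inter_self]
    · rw [← map_mul, idem_mul_supp]
    · exact hann a'
  have hgood : Good A' := by
    constructor
    · intro a' ha'
      rw [hmem] at ha' ⊢
      exact hq a' ha'
    · intro a' ha' b' hb' c' habc hsupp
      rw [hmem] at ha' hb' ⊢
      have hε := hq b' hb'
      rw [hA] at ha' hb' hε ⊢
      apply quotient_invariant hmul ha' hb' hε (hann b')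
      · rw [habc, map_mul]
      · rw [← map_mul]
        congr 1
        funext i
        by_cases hi : i ∈ supp b'
        · simp [idem_apply_of_mem hi]
        · have : i ∉ supp c' := fun h => hi (hsupp h)
          have hc : c' i = 0 := by
            by_contra hne
            exact this (mem_supp.mpr hne)
          simp [hc]
  obtain ⟨κ, hκ, E, hE1, hE2, hE3, ⟨φ⟩⟩ := structure_theorem hgood
  refine ⟨κ, hκ, E, hE1, hE2, hE3, ⟨?_⟩⟩
  have e1 : A ≃+* A.toSubring :=
    { toFun := fun x => ⟨x.1, x.2⟩
      invFun := fun x => ⟨x.1, x.2⟩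
      left_inv := fun x => rfl
      right_inv := fun x => rfl
      map_mul' := fun x y => rfl
      map_add' := fun x y => rfl }
  have e2 : A.toSubring ≃+* A' := A.toSubring.equivMapOfInjective e.toRingHom e.injective
  exact (e1.trans e2).trans φ

end Groth.Agent.Lib.Helper6.InvNorm
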